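import Groth.Agent.L27.Torsor.UnitCocycle
import Groth.Agent.L01.ProjDescent
import Mathlib.RingTheory.Finiteness.Descent
import Mathlib.RingTheory.Flat.FaithfullyFlat.Descent
import Mathlib.RingTheory.Spectrum.Prime.FreeLocus
import Mathlib.RingTheory.Localization.Free
import Mathlib.LinearAlgebra.Matrix.NonsingularInverse

/-!
# Amitsur one-cocycles in the general linear group
-/

set_option autoImplicit false
universe u

open TensorProduct Matrix
open Groth.L27.Torsor (e12 e13 e23)

namespace Groth.L16.GLTorsor

/-- A projective module of rank `n` at `p` is generated near `p` by `n` elements. -/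
theorem exists_local_generators {A : Type u} [CommRing A] (p : Ideal A) [p.IsPrime] (P : Type u) [AddCommGroup P]
    [Module A P] [Module.Finite A P] [Module.Projective A P] (n : ℕ)
    (hrank : Module.rankAtStalk (R := A) P ⟨p, inferInstance⟩ = n) :
    ∃ r : A, r ∉ p ∧ ∃ (v : Fin n → P) (N₀ : ℕ), ∀ x : P, r ^ N₀ • x ∈ Submodule.span A (Set.range v) := by
  classical
  haveI : Module.FinitePresentation A P := Module.finitePresentation_of_projective A P
  haveI : Module.Free (Localization.AtPrime p) (LocalizedModule p.primeCompl P) := by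
    exact Module.free_of_flat_of_isLocalRing
  obtain ⟨r, hr, hfree, hfr⟩ := Module.FinitePresentation.exists_free_localizedModule_powers p.primeCompl
    (LocalizedModule.mkLinearMap p.primeCompl P) (Localization.AtPrime p)
  haveI := hfree
  have hfin : Module.finrank (Localization (.powers r)) (LocalizedModule.Away r P) = n := hfr.trans hrank
  haveI : Module.Finite (Localization (.powers r)) (LocalizedModule.Away r P) :=
    Module.Finite.of_isLocalizedModule (Submonoid.powers r) (LocalizedModule.mkLinearMap (Submonoid.powers r) P)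
  haveI : Nontrivial (Localization (Submonoid.powers r)) := by
    exact (IsLocalization.lift (M := Submonoid.powers r) (S := Localization (Submonoid.powers r))
      (g := algebraMap A (Localization.AtPrime p)) (fun y => IsLocalization.map_units (Localization.AtPrime p)
        (⟨y, (Submonoid.powers_le.2 hr) y.2⟩ : p.primeCompl))).domain_nontrivial
  let b := Module.finBasisOfFinrankEq (Localization (.powers r)) (LocalizedModule.Away r P) hfin
  have hnum : ∀ j, ∃ (v : P) (t : Submonoid.powers r), b j = LocalizedModule.mk v t := fun j => by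
    induction b j using LocalizedModule.induction_on with
    | _ v t => exact ⟨v, t, rfl⟩
  choose v t hvt using hnum
  let L : Submodule A P := Submodule.span A (Set.range v)
  have hclear : ∀ x : P, ∃ N : ℕ, r ^ N • x ∈ L := by
    intro x
    have hx : LocalizedModule.mk x 1 ∈ L.localized' (Localization (.powers r)) (Submonoid.powers r)
        (LocalizedModule.mkLinearMap (Submonoid.powers r) P) := by
      rw [← b.sum_repr (LocalizedModule.mk x 1)]
      refine Submodule.sum_mem _ fun j _ => Submodule.smul_mem _ _ ?_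
      rw [hvt]
      exact ⟨v j, Submodule.subset_span ⟨j, rfl⟩, t j, IsLocalizedModule.mk'_eq_iff.2 (by
        rw [LocalizedModule.mkLinearMap_apply, Submonoid.smul_def, LocalizedModule.smul'_mk]
        exact (LocalizedModule.mk_cancel _ _).symm)⟩
    obtain ⟨m, hm, s', hs'⟩ := hx
    rw [IsLocalizedModule.mk'_eq_iff, LocalizedModule.mkLinearMap_apply, Submonoid.smul_def,
      LocalizedModule.smul'_mk] at hs'
    obtain ⟨s'', hs''⟩ := LocalizedModule.mk_eq.1 hs'
    obtain ⟨⟨_, k, rfl⟩, hk⟩ : ∃ w : Submonoid.powers r, w • x ∈ L :=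
      ⟨s'' * s', by
        have : (s'' * s') • x = s'' • m := by
          simp only [one_smul] at hs''
          rw [hs'', mul_smul]
          rfl
        rw [this]; exact L.smul_mem _ hm⟩
    exact ⟨k, hk⟩
  obtain ⟨T, hT⟩ := (Module.finite_def.1 ‹Module.Finite A P›)
  choose N hN using hclear
  let N₀ := T.sup N
  have hall : ∀ x : P, r ^ N₀ • x ∈ L := by
    intro x
    have hx : x ∈ Submodule.span A (T : Set P) := by rw [hT]; trivial
    induction hx using Submodule.span_induction with
    | mem y hy =>
      obtain ⟨d, hd⟩ := Nat.exists_eq_add_of_le (Finset.le_sup (f := N) (Finset.mem_coe.1 hy))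
      rw [show N₀ = N y + d from hd, pow_add, mul_comm, mul_smul]
      exact L.smul_mem _ (hN y)
    | zero => simp
    | add y z _ _ hy hz => rw [smul_add]; exact L.add_mem hy hz
    | smul a y _ hy => rw [smul_comm]; exact L.smul_mem a hy
  exact ⟨r, hr, v, N₀, hall⟩

variable (A B : Type u) [CommRing A] [CommRing B] [Algebra A B] (n : ℕ) (c : Matrix (Fin n) (Fin n) (B ⊗[A] B))

/-- `v ↦ c (v ⊗ 1) - 1 ⊗ v`. -/
noncomputable def defect : (Fin n → B) →ₗ[A] (Fin n → B ⊗[A] B) where
  toFun v := c *ᵥ (fun i => v i ⊗ₜ[A] (1 : B)) - fun i => (1 : B) ⊗ₜ[A] v i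
  map_add' v w := by
    ext i
    simp only [Pi.sub_apply, Pi.add_apply, mulVec, dotProduct, TensorProduct.add_tmul, mul_add,
      Finset.sum_add_distrib, TensorProduct.tmul_add]
    abel
  map_smul' r v := by
    ext i
    simp only [Pi.sub_apply, Pi.smul_apply, mulVec, dotProduct, RingHom.id_apply, ← TensorProduct.smul_tmul',
      mul_smul_comm, TensorProduct.tmul_smul, smul_sub, Finset.smul_sum]

/-- The descended module. -/
noncomputable abbrev desc : Submodule A (Fin n → B) := LinearMap.ker (defect A B n c)

theorem mem_desc {v : Fin n → B} (hv : v ∈ desc A B n c) (i : Fin n) :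
    ∑ j, c i j * (v j ⊗ₜ[A] (1 : B)) = (1 : B) ⊗ₜ[A] v i := by
  have := congrFun (LinearMap.mem_ker.1 hv) i
  simpa [defect, mulVec, dotProduct, sub_eq_zero] using this

/-- The comparison map. -/
noncomputable def comp : B ⊗[A] desc A B n c →ₗ[B] (Fin n → B) := (desc A B n c).subtype.liftBaseChange B

theorem comp_tmul (b : B) (v : desc A B n c) : comp A B n c (b ⊗ₜ v) = b • (v : Fin n → B) :=
  LinearMap.liftBaseChange_tmul _ _ _ _

theorem pi_sub (w : B ⊗[A] desc A B n c) :
    TensorProduct.piRight A A B (fun _ : Fin n => B) ((desc A B n c).subtype.lTensor B w) =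
      c *ᵥ fun i => comp A B n c w i ⊗ₜ[A] (1 : B) := by
  induction w using TensorProduct.induction_on with
  | zero => ext i; simp [mulVec, dotProduct]
  | tmul b v =>
    ext i
    rw [LinearMap.lTensor_tmul, TensorProduct.piRight_apply, TensorProduct.piRightHom_tmul, comp_tmul]
    simp only [mulVec, dotProduct, Submodule.coe_subtype]
    have key : ∀ j, c i j * ((b • (v : Fin n → B)) j ⊗ₜ[A] (1 : B)) = (b ⊗ₜ[A] (1 : B)) * (c i j * ((v : Fin n → B) j ⊗ₜ[A] (1 : B))) := by
      intro j
      rw [mul_left_comm, Algebra.TensorProduct.tmul_mul_tmul, mul_one]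
      rfl
    simp only [key]
    rw [← Finset.mul_sum, mem_desc A B n c v.2, Algebra.TensorProduct.tmul_mul_tmul, mul_one, one_mul]
  | add x y hx hy =>
    rw [map_add, map_add, hx, hy, map_add]
    ext i
    simp [mulVec, dotProduct, TensorProduct.add_tmul, mul_add, Finset.sum_add_distrib]

theorem comp_injective [Module.Flat A B] : Function.Injective (comp A B n c) := fun w w' h =>
  Module.Flat.lTensor_preserves_injective_linearMap _ (desc A B n c).injective_subtype
    ((TensorProduct.piRight A A B (fun _ : Fin n => B)).injective (by rw [pi_sub, pi_sub, h]))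

theorem lTensor_defect (w : B ⊗[A] (Fin n → B)) :
    TensorProduct.piRight A A B (fun _ : Fin n => B ⊗[A] B) ((defect A B n c).lTensor B w) =
      (c.map (e23 A B)) *ᵥ (fun i => e12 A B (TensorProduct.piRight A A B (fun _ : Fin n => B) w i)) -
        fun i => e13 A B (TensorProduct.piRight A A B (fun _ : Fin n => B) w i) := by
  induction w using TensorProduct.induction_on with
  | zero => ext i; simp [mulVec, dotProduct]
  | tmul b v =>
    ext i
    simp [defect, mulVec, dotProduct, TensorProduct.tmul_sub, TensorProduct.tmul_sum, Matrix.map_apply]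
  | add x y hx hy =>
    rw [map_add, map_add, hx, hy, map_add]
    ext i
    simp only [Pi.add_apply, Pi.sub_apply, mulVec, dotProduct, map_add, mul_add, Finset.sum_add_distrib]
    abel

variable [Module.FaithfullyFlat A B] (hc : c.map (e13 A B) = c.map (e23 A B) * c.map (e12 A B)) (hu : IsUnit c)

omit [Module.FaithfullyFlat A B] in
include hc hu in
theorem lmul_eq_one : c.map (Algebra.TensorProduct.lmul' A (S := B)) = 1 := by
  let μ3 : B ⊗[A] (B ⊗[A] B) →ₐ[A] B :=
    (Algebra.TensorProduct.lmul' A).comp (Algebra.TensorProduct.map (AlgHom.id A B) (Algebra.TensorProduct.lmul' A))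
  have h1 : ∀ z : B ⊗[A] B, μ3 (e12 A B z) = Algebra.TensorProduct.lmul' A z ∧
      μ3 (e13 A B z) = Algebra.TensorProduct.lmul' A z ∧ μ3 (e23 A B z) = Algebra.TensorProduct.lmul' A z := by
    intro z
    induction z using TensorProduct.induction_on with
    | zero => simp
    | tmul x y => simp [μ3]
    | add p q hp hq => simp only [map_add, hp.1, hp.2.1, hp.2.2, hq.1, hq.2.1, hq.2.2, and_self]
  have h2 : (c.map (e13 A B)).map μ3 = (c.map (e23 A B)).map μ3 * (c.map (e12 A B)).map μ3 := by
    rw [hc, Matrix.map_mul]
  simp only [Matrix.map_map] at h2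
  rw [show (μ3 ∘ e13 A B) = (Algebra.TensorProduct.lmul' A (S := B)) from funext fun z => (h1 z).2.1,
    show (μ3 ∘ e12 A B) = (Algebra.TensorProduct.lmul' A (S := B)) from funext fun z => (h1 z).1,
    show (μ3 ∘ e23 A B) = (Algebra.TensorProduct.lmul' A (S := B)) from funext fun z => (h1 z).2.2] at h2
  have hu' : IsUnit (c.map (Algebra.TensorProduct.lmul' A (S := B))) :=
    hu.map (Algebra.TensorProduct.lmul' A (S := B)).toRingHom.mapMatrix
  exact (hu'.mul_left_cancel ((mul_one _).trans h2)).symm

include hc hu in
theorem comp_surjective : Function.Surjective (comp A B n c) := by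
  rw [← LinearMap.range_eq_top, eq_top_iff, ← (Pi.basisFun B (Fin n)).span_eq, Submodule.span_le]
  rintro _ ⟨j, rfl⟩
  let e := TensorProduct.piRight A A B (fun _ : Fin n => B)
  let w := e.symm fun i => c i j
  have hw : (defect A B n c).lTensor B w = 0 := by
    apply (TensorProduct.piRight A A B (fun _ : Fin n => B ⊗[A] B)).injective
    rw [lTensor_defect, map_zero]
    ext i
    have := congrFun (congrFun hc i) j
    simp only [Matrix.map_apply, Matrix.mul_apply] at this
    simp [w, e, mulVec, dotProduct, Matrix.map_apply, this]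
  obtain ⟨z, hz⟩ := ((Module.Flat.lTensor_exact B (LinearMap.exact_subtype_ker_map (defect A B n c))) w).1 hw
  refine ⟨z, ?_⟩
  have h1 := pi_sub A B n c z
  rw [hz, LinearEquiv.apply_symm_apply] at h1
  funext i
  have h2 := congrArg (Algebra.TensorProduct.lmul' A (S := B)) (congrFun h1 i)
  simp only [mulVec, dotProduct, map_sum, map_mul, Algebra.TensorProduct.lmul'_apply_tmul, mul_one] at h2
  have h3 : ∀ k l, Algebra.TensorProduct.lmul' A (S := B) (c k l) = (1 : Matrix (Fin n) (Fin n) B) k l := fun k l =>
    congrFun (congrFun (lmul_eq_one A B n c hc hu) k) l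
  simp only [h3, Matrix.one_apply, ite_mul, one_mul, zero_mul, Finset.sum_ite_eq, Finset.mem_univ, if_true] at h2
  rw [Pi.basisFun_apply, ← h2, Pi.single_apply]

include hc hu in
/-- A cocycle in `GL_n` is a coboundary locally on the base. -/
theorem exists_coboundary (p : Ideal A) [p.IsPrime] :
    ∃ (M : Matrix (Fin n) (Fin n) B) (s : A), s ∉ p ∧
      c * M.map (fun m => m ⊗ₜ[A] (1 : B)) = M.map (fun m => (1 : B) ⊗ₜ[A] m) ∧
      ∃ β : B, M.det * β = algebraMap A B s := by
  classical
  let P := desc A B n c
  let eP : B ⊗[A] P ≃ₗ[B] (Fin n → B) :=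
    LinearEquiv.ofBijective (comp A B n c) ⟨comp_injective A B n c, comp_surjective A B n c hc hu⟩
  haveI : Module.Finite B (B ⊗[A] P) := Module.Finite.equiv eP.symm
  haveI : Module.Projective B (B ⊗[A] P) := Module.Projective.of_equiv eP.symm
  haveI : Module.Finite A P := Module.Finite.of_finite_tensorProduct_of_faithfullyFlat B
  haveI : Module.Projective A P := Groth.L01.ProjDescent.projective B
  haveI : Nontrivial B := by
    obtain ⟨x, -⟩ := PrimeSpectrum.comap_surjective_of_faithfullyFlat (A := A) (B := B) ⟨p, inferInstance⟩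
    exact x.nontrivial
  have hrank : Module.rankAtStalk (R := A) P ⟨p, inferInstance⟩ = n := by
    obtain ⟨q, hq⟩ := PrimeSpectrum.comap_surjective_of_faithfullyFlat (A := A) (B := B) ⟨p, inferInstance⟩
    have h1 := Module.rankAtStalk_baseChange (R := A) (S := B) (M := P) q
    rw [Module.rankAtStalk_eq_of_equiv eP, Module.rankAtStalk_eq_finrank_of_free] at h1
    simp only [Pi.natCast_apply, Module.finrank_fin_fun] at h1
    exact (hq ▸ h1.symm :)
  obtain ⟨r, hr, v, N₀, hall⟩ := exists_local_generators p P n hrank
  let M : Matrix (Fin n) (Fin n) B := Matrix.of fun i j => (v j : Fin n → B) i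
  have hspan : ∀ w : B ⊗[A] P, ∃ ρ : Fin n → B, M *ᵥ ρ = algebraMap A B (r ^ N₀) • comp A B n c w := by
    intro w
    induction w using TensorProduct.induction_on with
    | zero => exact ⟨0, by simp⟩
    | tmul b' x =>
      obtain ⟨a, ha⟩ := (Submodule.mem_span_range_iff_exists_fun A).1 (hall x)
      refine ⟨fun j => b' * algebraMap A B (a j), ?_⟩
      rw [comp_tmul]
      funext i
      have hi := congrArg (fun z : P => (z : Fin n → B) i) ha
      simp only [Submodule.coe_sum, Submodule.coe_smul, Finset.sum_apply, Pi.smul_apply] at hi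
      simp only [Algebra.smul_def] at hi
      simp only [mulVec, dotProduct, Pi.smul_apply, smul_eq_mul, M, Matrix.of_apply]
      rw [mul_left_comm, ← hi, Finset.mul_sum]
      exact Finset.sum_congr rfl fun j _ => by ring
    | add x y hx hy =>
      obtain ⟨ρ, hρ⟩ := hx
      obtain ⟨σ, hσ⟩ := hy
      exact ⟨ρ + σ, by rw [Matrix.mulVec_add, hρ, hσ, map_add, smul_add]⟩
  choose ρ hρ using fun j => hspan (eP.symm (Pi.single j 1))
  let R : Matrix (Fin n) (Fin n) B := Matrix.of fun i j => ρ j i
  have hMR : M * R = algebraMap A B (r ^ N₀) • (1 : Matrix (Fin n) (Fin n) B) := by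
    ext i j
    have := congrFun (hρ j) i
    rw [show comp A B n c (eP.symm (Pi.single j 1)) = Pi.single j 1 from eP.apply_symm_apply _] at this
    simp only [Matrix.mul_apply, R, Matrix.of_apply, Matrix.smul_apply, Matrix.one_apply]
    simp only [mulVec, dotProduct, Pi.smul_apply, Pi.single_apply] at this
    exact this
  refine ⟨M, (r ^ N₀) ^ n, fun h => hr ?_, ?_, R.det, ?_⟩
  · exact Ideal.IsPrime.mem_of_pow_mem inferInstance _ (Ideal.IsPrime.mem_of_pow_mem inferInstance _ h)
  · ext i j
    simp only [Matrix.mul_apply, Matrix.map_apply, M, Matrix.of_apply]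
    exact mem_desc A B n c (v j).2 i
  · rw [← Matrix.det_mul, hMR, Matrix.det_smul, Matrix.det_one, mul_one, Fintype.card_fin]
    simp only [map_pow]

end Groth.L16.GLTorsor
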