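import Groth.Agent.L16.GLTorsor.Cocycle
import Groth.Agent.L16.AssocBundle.Props
import Groth.Agent.L27.Torsor.Cov
import Groth.Agent.L19.AlgGrpBasic.AssocBundle
import Groth.Agent.L19.AlgGrpBasic.GLnBridge
import Groth.Agent.L11.Magnet.Factor
import Groth.Agent.L25.Actions
import Groth.Agent.S0082

/-!
# Torsors under the general linear group are Zariski locally trivial
-/

set_option autoImplicit false
set_option linter.style.haveILetI false
set_option backward.isDefEq.respectTransparency.types false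
set_option backward.isDefEq.respectTransparency false

universe u

open CategoryTheory CategoryTheory.Limits MonoidalCategory CartesianMonoidalCategory MonObj AlgebraicGeometry
open scoped TensorProduct
open Groth.L15.MuGL (GLPts)
open Groth.L19.AlgGrpBasic.Assoc (existsUnique_translator)
open Groth.L27.Torsor (Cov descend cancel e12 e13 e23)
open Groth.L25.Actions (mul_act)

noncomputable section

namespace Groth.L16.GLTorsor

variable {k : Type u} [CommRing k]

local notation "pt" => CoactBr.pt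

/-- Two points of an algebra which agree on the base factor through the tensor square. -/
theorem exists_pair_lift (A B : Type u) [CommRing A] [Algebra k A] [CommRing B] [Algebra A B] [Algebra k B]
    [IsScalarTower k A B] {W : Over (Spec (CommRingCat.of k))} (a b : W ⟶ CoactBr.sp k B)
    (h : a ≫ pt ((Algebra.ofId A B).restrictScalars k) = b ≫ pt ((Algebra.ofId A B).restrictScalars k)) :
    ∃ l : W ⟶ CoactBr.sp k (B ⊗[A] B),
      l ≫ pt ((Algebra.TensorProduct.includeLeft : B →ₐ[A] B ⊗[A] B).restrictScalars k) = a ∧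
      l ≫ pt ((Algebra.TensorProduct.includeRight : B →ₐ[A] B ⊗[A] B).restrictScalars k) = b := by
  have h' : a.left ≫ Spec.map (CommRingCat.ofHom (algebraMap A B)) =
      b.left ≫ Spec.map (CommRingCat.ofHom (algebraMap A B)) := congrArg CommaMorphism.left h
  let l₀ : W.left ⟶ Spec (CommRingCat.of (B ⊗[A] B)) :=
    pullback.lift a.left b.left h' ≫ (pullbackSpecIso A B B).hom
  have hl : l₀ ≫ Spec.map (CommRingCat.ofHom (Algebra.TensorProduct.includeLeftRingHom (R := A) (A := B) (B := B))) = a.left := by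
    rw [Category.assoc, ← pullbackSpecIso_inv_fst, Iso.hom_inv_id_assoc, pullback.lift_fst]
  have hr : l₀ ≫ Spec.map (CommRingCat.ofHom
      ((Algebra.TensorProduct.includeRight : B →ₐ[A] B ⊗[A] B) : B →+* B ⊗[A] B)) = b.left := by
    rw [Category.assoc, ← pullbackSpecIso_inv_snd, Iso.hom_inv_id_assoc, pullback.lift_snd]
  refine ⟨Over.homMk l₀ ?_, Over.OverMorphism.ext hl, Over.OverMorphism.ext hr⟩
  show l₀ ≫ Spec.map (CommRingCat.ofHom (algebraMap k (B ⊗[A] B))) = W.hom
  rw [show algebraMap k (B ⊗[A] B) =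
    (Algebra.TensorProduct.includeLeftRingHom (R := A) (A := B) (B := B)).comp (algebraMap k B) from
    RingHom.ext fun _ => rfl, CommRingCat.ofHom_comp, Spec.map_comp, ← Category.assoc, hl]
  exact Over.w a

variable {n : ℕ} {G : Over (Spec (CommRingCat.of k))} [GrpObj G] (L : GLPts k n G)
  {X Y : Over (Spec (CommRingCat.of k))} (a : AlgGrp.Action G X) {φ : X ⟶ Y}
  (hsq : IsPullback a.act.left (snd G X).left φ.left φ.left)
  (A : Type u) [CommRing A] [Algebra k A] (B : Type u) [CommRing B] [Algebra A B] [Algebra k B]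
  [IsScalarTower k A B]

include L hsq in
/-- A torsor under `GL_n` with a point over a faithfully flat algebra has sections Zariski locally. -/
theorem exists_local_section [Module.FaithfullyFlat A B] (j : CoactBr.sp k A ⟶ Y) (y : CoactBr.sp k B ⟶ X)
    (hy : y ≫ φ = pt ((Algebra.ofId A B).restrictScalars k) ≫ j) (p : Ideal A) [p.IsPrime] :
    ∃ (s : A), s ∉ p ∧ ∃ f : CoactBr.sp k (Localization.Away s) ⟶ X,
      f ≫ φ = pt ((Algebra.ofId A (Localization.Away s)).restrictScalars k) ≫ j := by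
  have hbase : ∀ (C : Type u) [CommRing C] [Algebra A C] [Algebra k C] [IsScalarTower k A C] (e : B →ₐ[A] C),
      (pt (e.restrictScalars k) ≫ y) ≫ φ = pt ((Algebra.ofId A C).restrictScalars k) ≫ j := by
    intro C _ _ _ _ e
    rw [Category.assoc, hy, ← Category.assoc, ← CoactBr.pt_comp]
    congr 2
    exact AlgHom.ext fun r => e.commutes r
  let iL : B →ₐ[A] B ⊗[A] B := Algebra.TensorProduct.includeLeft
  let iR : B →ₐ[A] B ⊗[A] B := Algebra.TensorProduct.includeRight
  obtain ⟨g, hg, -⟩ := existsUnique_translator a hsq (pt (iR.restrictScalars k) ≫ y) (pt (iL.restrictScalars k) ≫ y)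
    ((hbase _ iR).trans (hbase _ iL).symm)
  have key : ∀ e : B ⊗[A] B →ₐ[A] B ⊗[A] (B ⊗[A] B),
      lift (pt (e.restrictScalars k) ≫ g) (pt ((e.comp iL).restrictScalars k) ≫ y) ≫ a.act =
        pt ((e.comp iR).restrictScalars k) ≫ y := by
    intro e
    have e1 : ∀ i : B →ₐ[A] B ⊗[A] B, pt ((e.comp i).restrictScalars k) =
        pt (e.restrictScalars k) ≫ pt (i.restrictScalars k) := fun i => by
      rw [← CoactBr.pt_comp]; rfl
    rw [e1, e1, Category.assoc, Category.assoc, ← comp_lift, Category.assoc, hg]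
  have h1 : (e13 A B).comp iL = (e12 A B).comp iL := by ext; simp [iL]
  have h2 : (e13 A B).comp iR = (e23 A B).comp iR := by ext; simp [iR]
  have h3 : (e12 A B).comp iR = (e23 A B).comp iL := by ext; simp [iL, iR]
  have hc : pt ((e13 A B).restrictScalars k) ≫ g =
      (pt ((e23 A B).restrictScalars k) ≫ g) * (pt ((e12 A B).restrictScalars k) ≫ g) := by
    refine (existsUnique_translator a hsq (pt (((e13 A B).comp iR).restrictScalars k) ≫ y)
      (pt (((e13 A B).comp iL).restrictScalars k) ≫ y) ((hbase _ _).trans (hbase _ _).symm)).unique (key _) ?_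
    rw [mul_act, h1, key, h3, key, h2]
  let U := (L.pt (B ⊗[A] B)).symm g
  have hU : L.pt (B ⊗[A] B) U = g := (L.pt _).apply_symm_apply g
  rw [← hU, L.natural, L.natural, L.natural, ← map_mul] at hc
  have hc' := congrArg Units.val ((L.pt _).injective hc)
  obtain ⟨M, s, hs, hM, β, hβ⟩ := exists_coboundary A B n (U : Matrix (Fin n) (Fin n) (B ⊗[A] B)) hc' U.isUnit p
  refine ⟨s, hs, ?_⟩
  let A' := Localization.Away s
  let B' := A' ⊗[A] B
  let inc : B →ₐ[A] B' := Algebra.TensorProduct.includeRight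
  let et : B ⊗[A] B →ₐ[A] B' ⊗[A] B' := Algebra.TensorProduct.map inc inc
  let jL : B' →ₐ[A] B' ⊗[A] B' := Algebra.TensorProduct.includeLeft
  let jR : B' →ₐ[A] B' ⊗[A] B' := Algebra.TensorProduct.includeRight
  have hdet : IsUnit (M.map inc).det := by
    have h := congrArg inc hβ
    rw [map_mul, AlgHom.commutes, IsScalarTower.algebraMap_apply A A' B', AlgHom.map_det] at h
    refine isUnit_of_mul_isUnit_left (y := inc β) ?_
    rw [show (M.map inc).det = (inc.mapMatrix M).det from rfl, h]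
    exact (IsLocalization.Away.algebraMap_isUnit s).map _
  let V : (Matrix (Fin n) (Fin n) B')ˣ := (M.map inc).nonsingInvUnit hdet
  let b : CoactBr.sp k B' ⟶ G := L.pt B' V⁻¹
  have hbg : ((pt (jR.restrictScalars k) : CoactBr.sp k (B' ⊗[A] B') ⟶ CoactBr.sp k B') ≫ b) * (pt (et.restrictScalars k) ≫ g) = (pt (jL.restrictScalars k) : CoactBr.sp k (B' ⊗[A] B') ⟶ CoactBr.sp k B') ≫ b := by
    rw [← hU, L.natural, L.natural, L.natural, ← map_mul]
    congr 1
    rw [map_inv, map_inv, inv_mul_eq_iff_eq_mul, eq_mul_inv_iff_mul_eq]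
    refine Units.ext ?_
    have hM' := congrArg et.mapMatrix hM
    rw [map_mul] at hM'
    have eL : et.mapMatrix (M.map fun m => m ⊗ₜ[A] (1 : B)) = jL.mapMatrix (M.map inc) := by
      ext i l; simp [et, jL, inc]
    have eR : et.mapMatrix (M.map fun m => (1 : B) ⊗ₜ[A] m) = jR.mapMatrix (M.map inc) := by
      ext i l; simp [et, jR, inc]
    rw [eL, eR] at hM'
    simpa [V, Matrix.nonsingInvUnit, Matrix.map_map] using hM'
  have hzl : (pt (et.restrictScalars k) ≫ pt (iL.restrictScalars k)) ≫ y =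
      (pt (jL.restrictScalars k) : CoactBr.sp k (B' ⊗[A] B') ⟶ CoactBr.sp k B') ≫ pt (inc.restrictScalars k) ≫ y := by
    rw [← CoactBr.pt_comp, ← Category.assoc, ← CoactBr.pt_comp]
    congr 2
  have hzr : (pt (et.restrictScalars k) ≫ pt (iR.restrictScalars k)) ≫ y =
      (pt (jR.restrictScalars k) : CoactBr.sp k (B' ⊗[A] B') ⟶ CoactBr.sp k B') ≫ pt (inc.restrictScalars k) ≫ y := by
    rw [← CoactBr.pt_comp, ← Category.assoc, ← CoactBr.pt_comp]
    congr 2
  have hy' : lift (pt (et.restrictScalars k) ≫ g) ((pt (jL.restrictScalars k) : CoactBr.sp k (B' ⊗[A] B') ⟶ CoactBr.sp k B') ≫ pt (inc.restrictScalars k) ≫ y) ≫ a.act =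
      (pt (jR.restrictScalars k) : CoactBr.sp k (B' ⊗[A] B') ⟶ CoactBr.sp k B') ≫ pt (inc.restrictScalars k) ≫ y := by
    rw [← hzl, ← hzr, Category.assoc, Category.assoc, ← comp_lift, Category.assoc, hg]
  haveI : Module.FaithfullyFlat A' B' := inferInstanceAs (Module.FaithfullyFlat (Localization.Away s) _)
  let q : CoactBr.sp k B' ⟶ CoactBr.sp k A' := pt ((Algebra.ofId A' B').restrictScalars k)
  have hff : (algebraMap A' B').FaithfullyFlat := RingHom.faithfullyFlat_algebraMap_iff.2 ‹_›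
  haveI : Surjective (Spec.map (CommRingCat.ofHom (algebraMap A' B'))) :=
    ⟨(RingHom.FaithfullyFlat.iff_flat_and_comap_surjective.1 hff).2⟩
  haveI : Flat (Spec.map (CommRingCat.ofHom (algebraMap A' B'))) :=
    (HasRingHomProperty.Spec_iff (P := @Flat)).2 hff.flat
  have hq : Cov q :=
    Precoverage.generate_mem_toGrothendieck
      (Scheme.Hom.singleton_mem_fpqcPrecoverage (Spec.map (CommRingCat.ofHom (algebraMap A' B'))))
  have hqA : q ≫ pt ((Algebra.ofId A A').restrictScalars k) = pt ((Algebra.ofId A B').restrictScalars k) := by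
    rw [← CoactBr.pt_comp]
    congr 1
  obtain ⟨f, hf⟩ := descend hq (lift b (pt (inc.restrictScalars k) ≫ y) ≫ a.act) (fun W x z hxz => by
    obtain ⟨l, rfl, rfl⟩ := exists_pair_lift A B' x z (by
      rw [← hqA, ← Category.assoc, hxz, Category.assoc])
    simp only [Category.assoc]
    congr 1
    rw [comp_lift_assoc, comp_lift_assoc]
    show lift ((pt (jL.restrictScalars k) : CoactBr.sp k (B' ⊗[A] B') ⟶ CoactBr.sp k B') ≫ b) ((pt (jL.restrictScalars k) : CoactBr.sp k (B' ⊗[A] B') ⟶ CoactBr.sp k B') ≫ pt (inc.restrictScalars k) ≫ y) ≫ a.act =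
      lift ((pt (jR.restrictScalars k) : CoactBr.sp k (B' ⊗[A] B') ⟶ CoactBr.sp k B') ≫ b) ((pt (jR.restrictScalars k) : CoactBr.sp k (B' ⊗[A] B') ⟶ CoactBr.sp k B') ≫ pt (inc.restrictScalars k) ≫ y) ≫ a.act
    rw [← hbg, mul_act, hy'])
  refine ⟨f, cancel hq ?_⟩
  rw [← Category.assoc, hf, ← Category.assoc, hqA, Category.assoc,
    show a.act ≫ φ = snd G X ≫ φ from Over.OverMorphism.ext hsq.w, lift_snd_assoc]
  exact hbase _ inc

end Groth.L16.GLTorsor

namespace Groth.L16.GLTorsor

theorem isLocallyTrivial_zariski {k : Type u} [Field k] {n : ℕ} {X Y : Over (Spec (CommRingCat.of k))}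
    (a : AlgGrp.Action (FrB.GLn n (Spec (CommRingCat.of k))) X) {φ : X ⟶ Y}
    (hsq : IsPullback a.act.left (snd (FrB.GLn n (Spec (CommRingCat.of k))) X).left φ.left φ.left)
    (hloc : NonAbH1.IsLocallyTrivialFor Scheme.fpqcPrecoverage (Over.mk φ.left : Over Y.left)) :
    NonAbH1.IsLocallyTrivialFor Scheme.zariskiPrecoverage (Over.mk φ.left : Over Y.left) := by
  let G := FrB.GLn n (Spec (CommRingCat.of k))
  obtain ⟨L⟩ := Groth.L19.AlgGrpBasic.exists_glPts_GLn k n
  haveI := Groth.L25.Actions.descendsAlong_flat_fpqc.{u}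
  haveI := Groth.Agent.S0082.result.{u}
  haveI : IsAffineHom G.hom := by
    haveI : IsAffine (FrB.GLZ.{u} n).left := inferInstanceAs (IsAffine (Spec _))
    haveI : IsAffineHom (FrB.GLZ.{u} n).hom := isAffineHom_of_isAffine _
    exact MorphismProperty.pullback_snd (P := @IsAffineHom.{u}) _ _ inferInstance
  haveI : Flat G.hom := Groth.L11.Magnet.flat_of_field G
  have esnd : (snd G X).left = pullback.snd G.hom X.hom := by simp
  haveI : IsAffineHom φ.left := Groth.L16.AssocBundle.of_kernelPair @IsAffineHom hsq hloc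
    (by rw [esnd]; exact MorphismProperty.pullback_snd _ _ inferInstance)
  haveI : Flat φ.left := Groth.L16.AssocBundle.of_kernelPair @Flat hsq hloc
    (by rw [esnd]; exact MorphismProperty.pullback_snd _ _ inferInstance)
  haveI : Surjective φ.left := Groth.L16.AssocBundle.of_kernelPair @Surjective hsq hloc
    (by rw [esnd]; exact MorphismProperty.pullback_snd _ _ (Groth.L25.Actions.surjective_grp G))
  have hnhd : ∀ x : Y.left, ∃ (Z : Scheme.{u}) (i : Z ⟶ Y.left), IsOpenImmersion i ∧ x ∈ Set.range i ∧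
      ∃ t : Z ⟶ X.left, t ≫ φ.left = i := by
    intro x
    obtain ⟨U, hU, hxU, -⟩ := exists_isAffineOpen_mem_and_subset (x := x) (U := ⊤) trivial
    let ψ : CommRingCat.of k ⟶ Γ(Y.left, U) :=
      (Scheme.ΓSpecIso (CommRingCat.of k)).inv ≫ Y.hom.appLE ⊤ U le_top
    have hψ : hU.fromSpec ≫ Y.hom = Spec.map ψ := by
      rw [← IsAffineOpen.SpecMap_appLE_fromSpec Y.hom (isAffineOpen_top _) hU le_top,
        IsAffineOpen.fromSpec_top, Scheme.isoSpec_Spec_inv, ← Spec.map_comp]
    haveI : IsAffine (φ.left ⁻¹ᵁ U).toScheme := hU.preimage φ.left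
    let W := pullback φ.left hU.fromSpec
    haveI : IsAffine W := isAffine_of_isAffineHom (pullback.snd φ.left hU.fromSpec)
    let π : W ⟶ Spec Γ(Y.left, U) := pullback.snd φ.left hU.fromSpec
    let χ : Γ(Y.left, U) ⟶ Γ(W, ⊤) := (Scheme.ΓSpecIso Γ(Y.left, U)).inv ≫ π.appTop
    have hχ : W.isoSpec.inv ≫ π = Spec.map χ := by
      rw [← Scheme.isoSpec_inv_naturality, Spec.map_comp]
      congr 1
      exact Scheme.isoSpec_Spec_inv _
    have hflat : Flat (Spec.map χ) := by rw [← hχ]; infer_instance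
    have hsurj : Surjective (Spec.map χ) := by rw [← hχ]; infer_instance
    letI : Algebra k Γ(Y.left, U) := ψ.hom.toAlgebra
    letI : Algebra Γ(Y.left, U) Γ(W, ⊤) := χ.hom.toAlgebra
    letI : Algebra k Γ(W, ⊤) := (χ.hom.comp ψ.hom).toAlgebra
    haveI : IsScalarTower k Γ(Y.left, U) Γ(W, ⊤) := IsScalarTower.of_algebraMap_eq' rfl
    haveI hff : Module.FaithfullyFlat Γ(Y.left, U) Γ(W, ⊤) := by
      rw [← RingHom.faithfullyFlat_algebraMap_iff]
      exact RingHom.FaithfullyFlat.iff_flat_and_comap_surjective.2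
        ⟨(HasRingHomProperty.Spec_iff (P := @Flat)).1 hflat, hsurj.1⟩
    let j : CoactBr.sp k Γ(Y.left, U) ⟶ Y := Over.homMk hU.fromSpec (by exact hψ)
    let y : CoactBr.sp k Γ(W, ⊤) ⟶ X := Over.homMk (W.isoSpec.inv ≫ pullback.fst φ.left hU.fromSpec) (by
      show (W.isoSpec.inv ≫ pullback.fst φ.left hU.fromSpec) ≫ X.hom = Spec.map (χ.hom.comp ψ.hom |> CommRingCat.ofHom)
      rw [← Over.w φ, Category.assoc, pullback.condition_assoc]
      show W.isoSpec.inv ≫ π ≫ hU.fromSpec ≫ Y.hom = _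
      rw [reassoc_of% hχ, hψ, ← Spec.map_comp]
      rfl)
    have hy : y ≫ φ = CoactBr.pt ((Algebra.ofId Γ(Y.left, U) Γ(W, ⊤)).restrictScalars k) ≫ j := by
      apply Over.OverMorphism.ext
      show (W.isoSpec.inv ≫ pullback.fst φ.left hU.fromSpec) ≫ φ.left = Spec.map χ ≫ hU.fromSpec
      rw [Category.assoc, pullback.condition, ← Category.assoc]
      exact congrArg (· ≫ hU.fromSpec) hχ
    obtain ⟨s, hs, f, hf⟩ := exists_local_section L a hsq Γ(Y.left, U) Γ(W, ⊤) j y hy
      (hU.primeIdealOf ⟨x, hxU⟩).asIdeal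
    let o : Spec (CommRingCat.of (Localization.Away s)) ⟶ Y.left :=
      Spec.map (CommRingCat.ofHom (algebraMap Γ(Y.left, U) (Localization.Away s))) ≫ hU.fromSpec
    refine ⟨_, o, inferInstanceAs (IsOpenImmersion (_ ≫ _)), ?_, f.left, congrArg CommaMorphism.left hf⟩
    have hmem : hU.primeIdealOf ⟨x, hxU⟩ ∈
        Set.range (PrimeSpectrum.comap (algebraMap Γ(Y.left, U) (Localization.Away s))) := by
      rw [PrimeSpectrum.localization_away_comap_range (Localization.Away s) s]
      exact hs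
    obtain ⟨q, hq⟩ := hmem
    refine ⟨q, ?_⟩
    refine (Scheme.Hom.comp_apply (Spec.map (CommRingCat.ofHom (algebraMap Γ(Y.left, U) (Localization.Away s))))
      hU.fromSpec q).trans ?_
    exact (congrArg hU.fromSpec hq).trans (hU.fromSpec_primeIdealOf ⟨x, hxU⟩)
  choose Z i hi hx t ht using hnhd
  refine ⟨Presieve.ofArrows Z i, ?_, ?_⟩
  · rw [Scheme.zariskiPrecoverage, Scheme.ofArrows_mem_precoverage_iff]
    exact ⟨fun x => ⟨x, hx x⟩, fun x => hi x⟩
  · rintro _ _ ⟨x⟩
    exact ⟨t x, ht x⟩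

end Groth.L16.GLTorsor

end
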